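import Groth.Agent.PunctKill.Model
import Groth.Agent.CohFinite.Linear
import Groth.Agent.LocFree.Props
import Groth.Agent.QC.Localisation
import Groth.Agent.QC.AffineSpec
import Mathlib.AlgebraicGeometry.QuasiAffine

/-!
# Scalars factoring an endomorphism of a finite locally free module through the structure sheaf
-/

set_option autoImplicit false
set_option linter.style.haveILetI false
set_option backward.isDefEq.respectTransparency false

universe u

open CategoryTheory CategoryTheory.Limits AlgebraicGeometry TopologicalSpace Opposite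
open Groth.Agent.CohFinite (toAbMap smulAb_natural)

noncomputable section

namespace Groth.Agent.PunctKill

open Groth.Agent

/-- Multiplication by a scalar on a tilde is multiplication by the function. -/
theorem smulAb_tilde {R : CommRingCat.{u}} (M : ModuleCat.{u} R) (r : R) :
    toAbMap (tilde.map (ModuleCat.ofHom (r • (LinearMap.id : M →ₗ[R] M)))) =
      Coh.smulAb (tilde M) ((Scheme.ΓSpecIso R).inv r) := by
  ext W s
  refine Eq.trans ?_ (Coh.smulAb_app (tilde M) _ W s).symm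
  refine Eq.trans ?_ (Scheme.Modules.smul_Spec_def (M := tilde M) (U := W.unop) r s)
  refine Eq.trans ?_ (((tilde.modulesSpecToSheafIso M).app W).toLinearEquiv.symm.map_smul r s)
  refine Subtype.ext (funext fun y => ?_)
  have key : ∀ z, (IsLocalizedModule.map y.1.asIdeal.primeCompl (LocalizedModule.mkLinearMap y.1.asIdeal.primeCompl M)
      (LocalizedModule.mkLinearMap y.1.asIdeal.primeCompl M) (r • LinearMap.id)) z = r • z := fun z => by
    rw [map_smul, LinearMap.smul_apply, IsLocalizedModule.map_id, LinearMap.id_apply]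
  exact key _

variable {X Y : Scheme.{u}}

/-- Restriction of a multiplication. -/
theorem smulAb_restrict (f : X ⟶ Y) [IsOpenImmersion f] {M : Y.Modules} (φ : M ⟶ M) (c : Coh.Γtop Y)
    (h : toAbMap φ = Coh.smulAb M c) :
    toAbMap ((Scheme.Modules.restrictFunctor f).map φ) =
      Coh.smulAb ((Scheme.Modules.restrictFunctor f).obj M) (f.appTop c) := by
  ext W s
  have h1 : φ.val.app (op (f ''ᵁ W.unop)) s = (Coh.smulAb M c).hom.app (op (f ''ᵁ W.unop)) s :=
    congrArg (fun ψ => ψ.hom.app (op (f ''ᵁ W.unop)) s) h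
  refine Eq.trans h1 ?_
  change (Y.presheaf.map (homOfLE (le_top : f ''ᵁ W.unop ≤ ⊤)).op c) • (show Γ(M, f ''ᵁ W.unop) from s) =
    (f.appIso W.unop).inv (X.presheaf.map (homOfLE (le_top : W.unop ≤ ⊤)).op (f.appTop c)) •
      (show Γ(M, f ''ᵁ W.unop) from s)
  congr 1
  have h2 : f.appTop ≫ X.presheaf.map (homOfLE (le_top : W.unop ≤ ⊤)).op ≫ (f.appIso W.unop).inv =
      Y.presheaf.map (homOfLE (le_top : f ''ᵁ W.unop ≤ ⊤)).op := by
    rw [Scheme.Hom.appIso_inv_naturality]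
    erw [Scheme.Hom.app_appIso_inv_assoc]
    rw [← Functor.map_comp]
    rfl
  exact (congr($h2 c)).symm

variable [X.IsQuasiAffine]

/-- Modules over the global functions give sheaves on a quasi-affine scheme. -/
abbrev G (X : Scheme.{u}) [X.IsQuasiAffine] : ModuleCat.{u} Γ(X, ⊤) ⥤ X.Modules :=
  tilde.functor Γ(X, ⊤) ⋙ Scheme.Modules.restrictFunctor X.toSpecΓ

theorem smulAb_G (M : ModuleCat.{u} Γ(X, ⊤)) (r : Γ(X, ⊤)) :
    toAbMap ((G X).map (ModuleCat.ofHom (r • (LinearMap.id : M →ₗ[Γ(X, ⊤)] M)))) =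
      Coh.smulAb ((G X).obj M) r := by
  have h := smulAb_restrict X.toSpecΓ _ _ (smulAb_tilde M r)
  refine h.trans (congrArg (Coh.smulAb ((G X).obj M)) ?_)
  rw [Scheme.toSpecΓ_appTop]
  exact ConcreteCategory.congr_hom (Scheme.ΓSpecIso Γ(X, ⊤)).inv_hom_id r

/-- The structure sheaf comes from the ring. -/
def unitIso (X : Scheme.{u}) [X.IsQuasiAffine] : (G X).obj (ModuleCat.of Γ(X, ⊤) Γ(X, ⊤)) ≅ Coh.structureModule X :=
  (Scheme.Modules.restrictFunctor X.toSpecΓ).mapIso tildeSelf ≪≫ Scheme.Modules.restrictUnitIso X.toSpecΓ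

/-- The global sections of a module. -/
abbrev globM (F : X.Modules) : ModuleCat.{u} Γ(X, ⊤) := ModuleCat.of Γ(X, ⊤) (F.val.obj (op ⊤))

theorem nonempty_G_iso (F : X.Modules) [Coh.IsQCoh F] : Nonempty ((G X).obj (globM F) ≅ F) := by
  let N := (Scheme.Modules.pushforward X.toSpecΓ).obj F
  have hN : N.IsQuasicoherent := QC.isQCoh_pushforward X.toSpecΓ
  have hiso : IsIso N.fromTildeΓ := by rwa [← isQuasicoherent_iff_isIso_fromTildeΓ]
  let e : globM F ≅ (modulesSpecToSheaf.obj N).presheaf.obj (op ⊤) := LinearEquiv.toModuleIso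
    ({ AddEquiv.refl (F.val.obj (op ⊤) : Type u) with
      map_smul' := fun a m => by
        show a • m = (show Γ(X, ⊤) from (Scheme.Hom.app X.toSpecΓ ⊤) (((Spec Γ(X, ⊤)).presheaf.map (⊤ : (Spec Γ(X, ⊤)).Opens).leTop.op)
          ((Scheme.ΓSpecIso Γ(X, ⊤)).inv a))) • m
        refine congrArg (fun r : Γ(X, ⊤) => r • (m : (F.val.obj (op ⊤) : Type u))) ?_
        have h0 : ((Spec Γ(X, ⊤)).presheaf.map (⊤ : (Spec Γ(X, ⊤)).Opens).leTop.op) = 𝟙 _ := (Spec Γ(X, ⊤)).presheaf.map_id _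
        show a = (Scheme.Hom.appTop X.toSpecΓ) (((Spec Γ(X, ⊤)).presheaf.map (⊤ : (Spec Γ(X, ⊤)).Opens).leTop.op)
          ((Scheme.ΓSpecIso Γ(X, ⊤)).inv a))
        rw [h0, Scheme.toSpecΓ_appTop]
        exact (ConcreteCategory.congr_hom (Scheme.ΓSpecIso Γ(X, ⊤)).inv_hom_id a).symm } :
      ↑(globM F) ≃ₗ[Γ(X, ⊤)] ↑((modulesSpecToSheaf.obj N).presheaf.obj (op ⊤)))
  exact ⟨(Scheme.Modules.restrictFunctor X.toSpecΓ).mapIso
    ((tilde.functor Γ(X, ⊤)).mapIso e ≪≫ @asIso _ _ _ _ N.fromTildeΓ hiso) ≪≫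
      (Scheme.Modules.restrictFunctorAdjCounitIso X.toSpecΓ).app F⟩

/-- A map which is bijective up to powers of `g` is bijective on sections over `D(g)`. -/
theorem bijective_app_basicOpen {R : CommRingCat.{u}} {M N : ModuleCat.{u} R} (q : M ⟶ N) (g : R)
    (hs : ∀ m : N, ∃ (n : ℕ) (x : M), q x = g ^ n • m) (hi : ∀ x : M, q x = 0 → ∃ n : ℕ, g ^ n • x = 0) :
    Function.Bijective ((tilde.map q).app (PrimeSpectrum.basicOpen g)) := by
  let D : (Spec R).Opens := PrimeSpectrum.basicOpen g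
  let F : (modulesSpecToSheaf.obj (tilde M)).presheaf.obj (op D) →ₗ[R]
      (modulesSpecToSheaf.obj (tilde N)).presheaf.obj (op D) := ((modulesSpecToSheaf.map (tilde.map q)).1.app (op D)).hom
  have hF : ∀ x, F ((tilde.toOpen M D).hom x) = (tilde.toOpen N D).hom (q x) := fun x =>
    congr($(tilde.toOpen_map_app q D) x)
  suffices Function.Bijective F from this
  have hM : IsLocalizedModule (Submonoid.powers g) (tilde.toOpen M D).hom :=
    inferInstanceAs (IsLocalizedModule.Away g (tilde.toOpen M (PrimeSpectrum.basicOpen g)).hom)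
  have hN : IsLocalizedModule (Submonoid.powers g) (tilde.toOpen N D).hom :=
    inferInstanceAs (IsLocalizedModule.Away g (tilde.toOpen N (PrimeSpectrum.basicOpen g)).hom)
  refine ⟨?_, fun y => ?_⟩
  · rw [injective_iff_map_eq_zero]
    intro y hy
    obtain ⟨⟨x, s⟩, hx⟩ := IsLocalizedModule.surj (Submonoid.powers g) (tilde.toOpen M D).hom y
    have h : (tilde.toOpen N D).hom (q x) = 0 := by
      rw [← hF, ← hx, Submonoid.smul_def, map_smul, hy, smul_zero]
    obtain ⟨⟨_, n, rfl⟩, hn⟩ := (IsLocalizedModule.eq_zero_iff (Submonoid.powers g) (tilde.toOpen N D).hom).mp h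
    rw [Submonoid.smul_def, ← map_smul] at hn
    obtain ⟨m, hm⟩ := hi _ hn
    have hx0 : (tilde.toOpen M D).hom x = 0 :=
      (IsLocalizedModule.eq_zero_iff (Submonoid.powers g) (tilde.toOpen M D).hom).mpr
        ⟨⟨g ^ (m + n), m + n, rfl⟩, by
          rw [Submonoid.smul_def]
          change g ^ (m + n) • x = 0
          rw [pow_add, mul_smul]
          exact hm⟩
    refine IsLocalizedModule.smul_injective (tilde.toOpen M D).hom s ?_
    simp only [hx, hx0, smul_zero]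
  · obtain ⟨⟨m, s⟩, hm⟩ := IsLocalizedModule.surj (Submonoid.powers g) (tilde.toOpen N D).hom y
    obtain ⟨n, x, hx⟩ := hs m
    let u : Submonoid.powers g := ⟨g ^ n, n, rfl⟩
    let t : Submonoid.powers g := u * s
    obtain ⟨z, hz⟩ : ∃ z, t • z = (tilde.toOpen M D).hom x :=
      ((Module.End.isUnit_iff _).mp (IsLocalizedModule.map_units (tilde.toOpen M D).hom t)).2 _
    refine ⟨z, IsLocalizedModule.smul_injective (tilde.toOpen N D).hom t ?_⟩
    change t • F z = t • y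
    rw [Submonoid.smul_def, ← map_smul, ← Submonoid.smul_def, hz, hF, hx, map_smul, ← hm, mul_smul,
      Submonoid.smul_def u]

/-- A map which is bijective up to powers of each member of a cover gives an isomorphism of sheaves. -/
theorem isIso_G_map {M N : ModuleCat.{u} Γ(X, ⊤)} (q : M ⟶ N) {ι : Type} (g : ι → Γ(X, ⊤))
    (hcov : ∀ x : X, ∃ i, x ∈ X.basicOpen (g i))
    (hs : ∀ i (m : N), ∃ (n : ℕ) (x : M), q x = g i ^ n • m) (hi : ∀ i (x : M), q x = 0 → ∃ n : ℕ, g i ^ n • x = 0) :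
    IsIso ((G X).map q) := by
  let φ := tilde.map q
  have hb : ∀ (i : ι) (W : (Spec Γ(X, ⊤)).Opens), W ≤ PrimeSpectrum.basicOpen (g i) → Function.Bijective (φ.app W) := by
    intro i W hW
    let D : (Spec Γ(X, ⊤)).Opens := PrimeSpectrum.basicOpen (g i)
    have hU : IsAffineOpen D := IsAffineOpen.Spec_basicOpen (g i)
    haveI := QC.isIso_restrict_of_bijective hU (QC.isQCoh_tilde M) (QC.isQCoh_tilde N) φ
      (bijective_app_basicOpen q (g i) (hs i) (hi i))
    obtain ⟨V, rfl⟩ : ∃ V, hU.fromSpec ''ᵁ V = W := ⟨hU.fromSpec ⁻¹ᵁ W, by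
      rw [Scheme.Hom.image_preimage_eq_opensRange_inf, hU.opensRange_fromSpec, inf_eq_right.mpr hW]⟩
    exact ConcreteCategory.bijective_of_isIso (((Scheme.Modules.restrictFunctor hU.fromSpec).map φ).app V)
  refine QC.isIso_of_restrict_cover (fun i => (X.basicOpen (g i)).ι) (fun x => ?_) ((G X).map q) fun i => ?_
  · obtain ⟨i, hi⟩ := hcov x
    exact ⟨i, ⟨⟨x, hi⟩, rfl⟩⟩
  · rw [Scheme.Modules.Hom.isIso_iff_isIso_app]
    intro W
    rw [ConcreteCategory.isIso_iff_bijective]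
    refine hb i (X.toSpecΓ ''ᵁ ((X.basicOpen (g i)).ι ''ᵁ W)) ?_
    refine (Scheme.Hom.image_mono X.toSpecΓ (Scheme.Opens.ι_image_le (X.basicOpen (g i)) W)).trans ?_
    rw [← X.toSpecΓ_preimage_basicOpen (g i), Scheme.Hom.image_preimage_eq_opensRange_inf]
    exact inf_le_right

/-- Data of a free basis over a basic open in terms of global sections. -/
theorem exists_basis_data (F : X.Modules) [Coh.IsQCoh F] (f : Γ(X, ⊤)) (hf : IsAffineOpen (X.basicOpen f))
    {W : X.Opens} {n : ℕ} (e : F.restrict W.ι ≅ FlatMod.freeMod (↑W) n) (hW : X.basicOpen f ≤ W) :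
    ∃ (r : ℕ) (v : Fin r → (globM F : Type u)),
      (∀ m : globM F, ∃ (l : ℕ) (c : Fin r → Γ(X, ⊤)), f ^ l • m = ∑ k, c k • v k) ∧
      ∀ c : Fin r → Γ(X, ⊤), ∑ k, c k • v k = 0 → ∃ l, ∀ k, f ^ l * c k = 0 := by
  classical
  let D := X.basicOpen f
  obtain ⟨hfree, hfin⟩ := LocFree.free_sections_of_le e hf hW
  haveI := hfree
  haveI := hfin
  obtain ⟨rk, ⟨b⟩⟩ : ∃ rk : ℕ, Nonempty (Module.Basis (Fin rk) Γ(X, D) Γ(F, D)) := by
    rcases subsingleton_or_nontrivial Γ(X, D) with hR | hR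
    · haveI : Subsingleton Γ(F, D) := Module.subsingleton Γ(X, D) _
      exact ⟨0, ⟨Module.Basis.empty _⟩⟩
    · exact ⟨_, ⟨Module.finBasis Γ(X, D) Γ(F, D)⟩⟩
  have hc : IsCompact ((⊤ : X.Opens) : Set X) := isCompact_univ
  have hqs : IsQuasiSeparated ((⊤ : X.Opens) : Set X) := isQuasiSeparated_univ
  let ρ : Γ(X, ⊤) →+* Γ(X, D) := QC.resO X (X.basicOpen_le f)
  haveI : IsLocalization.Away f Γ(X, D) := isLocalization_basicOpen_of_qcqs hc hqs f
  choose l w hw using fun k => QC.exists_pow_smul_extends_of_isCompact (M := F) hc hqs f (b k)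
  let L := ∑ k, l k
  let v : Fin rk → (globM F : Type u) := fun k => f ^ (L - l k) • (show Γ(F, ⊤) from w k)
  have hv : ∀ k, QC.res F (X.basicOpen_le f) (v k) = ρ f ^ L • b k := fun k => by
    show QC.res F (X.basicOpen_le f) (f ^ (L - l k) • (show Γ(F, ⊤) from w k)) = _
    rw [QC.res_smul, hw k, ← mul_smul, map_pow, ← pow_add,
      Nat.sub_add_cancel (Finset.single_le_sum (fun i _ => Nat.zero_le (l i)) (Finset.mem_univ k))]
  have hres : ∀ c : Fin rk → Γ(X, ⊤), QC.res F (X.basicOpen_le f) (∑ k, c k • (show Γ(F, ⊤) from v k)) =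
      ∑ k, (ρ (c k) * ρ f ^ L) • b k := fun c => by
    rw [map_sum]
    refine Finset.sum_congr rfl fun k _ => ?_
    rw [QC.res_smul, hv, mul_smul]
  refine ⟨rk, v, fun m => ?_, fun c hc0 => ?_⟩
  · let m' : Γ(F, ⊤) := m
    choose a ha using fun k => IsLocalization.Away.surj f (b.repr (QC.res F (X.basicOpen_le f) m') k)
    choose t ht using ha
    let T := ∑ k, a k
    obtain ⟨s, hs⟩ := QC.exists_pow_smul_eq_zero_of_isCompact (M := F) hc f
      (f ^ (T + L) • m' - ∑ k, (f ^ (T - a k) * t k) • (show Γ(F, ⊤) from v k)) (by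
        rw [map_sub, QC.res_smul, hres, sub_eq_zero]
        conv_lhs => rw [← b.sum_repr (QC.res F (X.basicOpen_le f) m'), Finset.smul_sum]
        refine Finset.sum_congr rfl fun k _ => ?_
        rw [← mul_smul, map_mul, map_pow, map_pow, show ρ (t k) = b.repr (QC.res F (X.basicOpen_le f) m') k * ρ f ^ a k from
          (ht k).symm.trans rfl]
        congr 1
        rw [pow_add, show ρ f ^ T = ρ f ^ (T - a k) * ρ f ^ a k by
          rw [← pow_add, Nat.sub_add_cancel (Finset.single_le_sum (fun i _ => Nat.zero_le (a i)) (Finset.mem_univ k))]]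
        ring)
    refine ⟨s + (T + L), fun k => f ^ s * (f ^ (T - a k) * t k), ?_⟩
    change f ^ (s + (T + L)) • m' = ∑ k, (f ^ s * (f ^ (T - a k) * t k)) • (show Γ(F, ⊤) from v k)
    rw [smul_sub, sub_eq_zero] at hs
    rw [pow_add, mul_smul, hs, Finset.smul_sum]
    exact Finset.sum_congr rfl fun k _ => (mul_smul _ _ _).symm
  · have h := congrArg (QC.res F (X.basicOpen_le f)) (show (∑ k, c k • (show Γ(F, ⊤) from v k) : Γ(F, ⊤)) = 0 from hc0)
    rw [hres, map_zero] at h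
    have hz := Fintype.linearIndependent_iff.mp b.linearIndependent _ h
    have hk : ∀ k, ∃ s : ℕ, f ^ s * c k = 0 := fun k => by
      have hu : IsUnit (ρ f ^ L) := (IsLocalization.Away.algebraMap_isUnit (S := Γ(X, D)) f).pow L
      have h2 : algebraMap Γ(X, ⊤) Γ(X, D) (c k) = 0 := hu.mul_left_eq_zero.mp (hz k)
      obtain ⟨⟨_, s, rfl⟩, hs⟩ := (IsLocalization.map_eq_zero_iff (Submonoid.powers f) Γ(X, D) (c k)).mp h2
      exact ⟨s, hs⟩
    choose s hs using hk
    refine ⟨∑ k, s k, fun k => ?_⟩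
    rw [← Nat.sub_add_cancel (Finset.single_le_sum (fun i _ => Nat.zero_le (s i)) (Finset.mem_univ k) : s k ≤ ∑ k, s k),
      pow_add, mul_assoc, hs k, mul_zero]

/-- Powers of the members of a trivialising cover factor through the structure sheaf. -/
theorem exists_factor (F : X.Modules) [Coh.IsQCoh F] {ι : Type} [Fintype ι] (g : ι → Γ(X, ⊤))
    (hcov : ∀ x : X, ∃ i, x ∈ X.basicOpen (g i)) (haff : ∀ i, IsAffineOpen (X.basicOpen (g i)))
    (hfree : ∀ i, ∃ (W : X.Opens) (n : ℕ), X.basicOpen (g i) ≤ W ∧ Nonempty (F.restrict W.ι ≅ FlatMod.freeMod (↑W) n))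
    (j : ι) : ∃ (N r : ℕ) (a : Fin r → (F ⟶ Coh.structureModule X)) (b : Fin r → (Coh.structureModule X ⟶ F)),
      toAbMap (∑ k, a k ≫ b k) = Coh.smulAb F (g j ^ N) := by
  classical
  choose W n hle he using hfree
  choose r v hspan hinj using fun i => exists_basis_data F (g i) (haff i) (he i).some (hle i)
  obtain ⟨K0, q, h⟩ := exists_model g r v hspan hinj
  let M0 : ModuleCat.{u} Γ(X, ⊤) := ModuleCat.of Γ(X, ⊤) (((Σ i, Fin (r i)) → Γ(X, ⊤)) ⧸ K0)
  let qh : M0 ⟶ globM F := ModuleCat.ofHom q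
  haveI : IsIso ((G X).map qh) := isIso_G_map qh g hcov (fun i => (h i).1) (fun i => (h i).2.1)
  obtain ⟨ψ₀⟩ := nonempty_G_iso F
  let ψ : (G X).obj M0 ≅ F := asIso ((G X).map qh) ≪≫ ψ₀
  obtain ⟨N, a, b, hab⟩ := (h j).2.2
  refine ⟨N, r j, fun k => ψ.inv ≫ (G X).map (ModuleCat.ofHom (a k) : M0 ⟶ _) ≫ (unitIso X).hom,
    fun k => (unitIso X).inv ≫ (G X).map (ModuleCat.ofHom (b k) : _ ⟶ M0) ≫ ψ.hom, ?_⟩
  have hsum : ∑ k, (ModuleCat.ofHom (a k) : M0 ⟶ ModuleCat.of Γ(X, ⊤) Γ(X, ⊤)) ≫ ModuleCat.ofHom (b k) =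
      ModuleCat.ofHom (g j ^ N • (LinearMap.id : M0 →ₗ[Γ(X, ⊤)] M0)) := by
    refine ModuleCat.hom_ext ?_
    rw [ModuleCat.hom_sum]
    exact hab
  have htot : ∑ k, (ψ.inv ≫ (G X).map (ModuleCat.ofHom (a k) : M0 ⟶ _) ≫ (unitIso X).hom) ≫
      ((unitIso X).inv ≫ (G X).map (ModuleCat.ofHom (b k) : _ ⟶ M0) ≫ ψ.hom) =
      ψ.inv ≫ (G X).map (ModuleCat.ofHom (g j ^ N • (LinearMap.id : M0 →ₗ[Γ(X, ⊤)] M0))) ≫ ψ.hom := by
    rw [← hsum, Functor.map_sum, Preadditive.sum_comp, Preadditive.comp_sum]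
    refine Finset.sum_congr rfl fun k _ => ?_
    simp only [Category.assoc, Iso.hom_inv_id_assoc, Functor.map_comp]
  rw [htot, toAbMap, Functor.map_comp, Functor.map_comp]
  change toAbMap ψ.inv ≫ toAbMap _ ≫ toAbMap ψ.hom = _
  rw [smulAb_G, smulAb_natural, ← Category.assoc, ← Functor.map_comp, ψ.inv_hom_id, CategoryTheory.Functor.map_id,
    Category.id_comp]

end Groth.Agent.PunctKill
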