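import Groth.Agent.PunctKill.Factor
import Groth.Prelude.Def_Wider

/-!
# Annihilators of the cohomology of finite locally free modules on punctured spectra
-/

set_option autoImplicit false
set_option linter.style.haveILetI false
set_option backward.isDefEq.respectTransparency false

universe u

open CategoryTheory CategoryTheory.Limits AlgebraicGeometry TopologicalSpace Opposite
open Groth.Agent.CohFinite (toAbMap hhMap hhMap_comp)

noncomputable section

namespace Groth.Agent.PunctKill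

theorem hhMap_sum {X : Scheme.{u}} (A : Type u) [CommRing A] [X.Over (Spec (CommRingCat.of A))] {M N : X.Modules}
    {ι : Type} [Fintype ι] (φ : ι → (M ⟶ N)) (q : ℕ) (x : Coh.HH X M q) :
    hhMap A (∑ i, φ i) q x = ∑ i, hhMap A (φ i) q x := by
  classical
  change Sheaf.H.map (toAbMap (∑ i, φ i)) q x = ∑ i, Sheaf.H.map (toAbMap (φ i)) q x
  have key : ∀ s : Finset ι, Sheaf.H.map (toAbMap (∑ i ∈ s, φ i)) q x = ∑ i ∈ s, Sheaf.H.map (toAbMap (φ i)) q x := by
    intro s
    induction s using Finset.induction_on with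
    | empty =>
      rw [Finset.sum_empty, Finset.sum_empty, toAbMap, Functor.map_zero]
      change ((Sheaf.functorH _ q).map 0).hom x = 0
      rw [Functor.map_zero]
      rfl
    | @insert a s ha ih =>
      rw [Finset.sum_insert ha, Finset.sum_insert ha, ← ih, toAbMap, Functor.map_add, Sheaf.H.map_add_apply]
  exact key Finset.univ

/-- A power of `J` kills the cohomology of a finite locally free module on the punctured spectrum. -/
theorem exists_pow_kill {A : Type u} [CommRing A] (J I : Ideal A) (hJI : J ≤ I) (hI : I.FG) (p n : ℕ)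
    (hO : ∀ a ∈ J ^ n, ∀ x : Coh.HH (↑(LocCoh.puncturedOpen A I)) (Coh.structureModule (↑(LocCoh.puncturedOpen A I))) p,
      a • x = 0)
    (F : (↑(LocCoh.puncturedOpen A I) : Scheme.{u}).Modules) (hF : FlatMod.IsFinLocFree F) :
    ∃ m : ℕ, ∀ a ∈ J ^ m, ∀ x : Coh.HH (↑(LocCoh.puncturedOpen A I)) F p, a • x = 0 := by
  classical
  let U := LocCoh.puncturedOpen A I
  let S := Spec (CommRingCat.of A)
  let X : Scheme.{u} := ↑U
  have hUc : IsCompact (U : Set S) := by
    obtain ⟨T, hT⟩ := hI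
    refine (PrimeSpectrum.isCompact_isOpen_iff.mpr ⟨T, ?_⟩).1
    show (PrimeSpectrum.zeroLocus (T : Set A))ᶜ = (PrimeSpectrum.zeroLocus (I : Set A))ᶜ
    rw [← hT]
    exact congrArg compl (PrimeSpectrum.zeroLocus_span (T : Set A)).symm
  haveI : CompactSpace X := isCompact_iff_compactSpace.mp hUc
  haveI : X.IsQuasiAffine := Scheme.IsQuasiAffine.of_isImmersion U.ι
  haveI : Coh.IsQCoh F := LocFree.isQCoh_of_isFinLocFree hF
  let gl : A →+* Γ(X, ⊤) := Coh.toGlobal (X ↘ Spec (CommRingCat.of A))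
  have hbo : ∀ a : A, X.basicOpen (gl a) = U.ι ⁻¹ᵁ (PrimeSpectrum.basicOpen a : S.Opens) := fun a => by
    rw [show gl a = U.ι.appTop ((Scheme.ΓSpecIso (CommRingCat.of A)).inv a) from rfl, ← Scheme.preimage_basicOpen_top]
    congr 1
    exact basicOpen_eq_of_affine (R := CommRingCat.of A) a
  have hloc : ∀ x : X, ∃ a : A, x ∈ X.basicOpen (gl a) ∧ (PrimeSpectrum.basicOpen a : S.Opens) ≤ U ∧
      ∃ (W : X.Opens) (r : ℕ), X.basicOpen (gl a) ≤ W ∧ Nonempty (F.restrict W.ι ≅ FlatMod.freeMod (↑W) r) := by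
    intro x
    obtain ⟨W, r, hxW, e⟩ := hF x
    obtain ⟨_, ⟨_, ⟨a, rfl⟩, rfl⟩, hxa, haW⟩ := PrimeSpectrum.isBasis_basic_opens.exists_subset_of_mem_open
      (show U.ι x ∈ (U.ι ''ᵁ W : S.Opens) from ⟨x, hxW, rfl⟩) (U.ι ''ᵁ W).2
    refine ⟨a, ?_, fun y hy => ?_, W, r, ?_, e⟩
    · rw [hbo]; exact hxa
    · exact Scheme.Opens.ι_image_le U W (haW hy)
    · rw [hbo]
      intro y hy
      obtain ⟨z, hz, hzy⟩ := haW hy
      rwa [← U.ι.isOpenEmbedding.injective hzy]
  choose a hxa haU W r hW he using hloc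
  obtain ⟨T, hT⟩ := isCompact_univ.elim_finite_subcover (fun x : X => (X.basicOpen (gl (a x)) : Set X))
    (fun x => (X.basicOpen (gl (a x))).2) (fun x _ => Set.mem_iUnion.mpr ⟨x, hxa x⟩)
  let g : Fin T.card → A := fun j => a (T.equivFin.symm j).1
  have hcov : ∀ x : X, ∃ j, x ∈ X.basicOpen (gl (g j)) := fun x => by
    obtain ⟨y, hy, hxy⟩ := Set.mem_iUnion₂.mp (hT (Set.mem_univ x))
    exact ⟨T.equivFin ⟨y, hy⟩, by simpa [g] using hxy⟩
  have haff : ∀ j, IsAffineOpen (X.basicOpen (gl (g j))) := fun j => by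
    rw [hbo, ← U.ι.isAffineOpen_iff_of_isOpenImmersion, Scheme.Hom.image_preimage_eq_opensRange_inf,
      Scheme.Opens.opensRange_ι, inf_eq_right.mpr (haU _)]
    exact IsAffineOpen.Spec_basicOpen (R := CommRingCat.of A) (g j)
  have hfree : ∀ j, ∃ (W : X.Opens) (n : ℕ), X.basicOpen (gl (g j)) ≤ W ∧
      Nonempty (F.restrict W.ι ≅ FlatMod.freeMod (↑W) n) := fun j => ⟨W _, r _, hW _, he _⟩
  let K : Ideal A :=
    { carrier := {c | ∀ b ∈ J ^ n, ∀ x : Coh.HH X F p, (b * c) • x = 0}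
      zero_mem' := fun b _ x => by rw [mul_zero, zero_smul]
      add_mem' := fun {c c'} h h' b hb x => by rw [mul_add, add_smul, h b hb x, h' b hb x, add_zero]
      smul_mem' := fun t c h b hb x => by
        rw [smul_eq_mul, ← mul_assoc]
        exact h _ (Ideal.mul_mem_right t _ hb) x }
  have hK : ∀ j, ∃ N : ℕ, g j ^ N ∈ K := fun j => by
    obtain ⟨N, k, u, v, huv⟩ := exists_factor F (fun j => gl (g j)) hcov haff hfree j
    refine ⟨N, fun b hb x => ?_⟩
    have h1 : g j ^ N • x = hhMap A (∑ i, u i ≫ v i) p x := by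
      change Sheaf.H.map (Coh.smulAb F (gl (g j ^ N))) p x = Sheaf.H.map (toAbMap (∑ i, u i ≫ v i)) p x
      rw [huv, map_pow]
    rw [mul_smul, h1, hhMap_sum, Finset.smul_sum]
    refine Finset.sum_eq_zero fun i _ => ?_
    rw [hhMap_comp, ← map_smul, hO b hb, map_zero]
  choose N hN using hK
  have hrad : I ≤ K.radical := by
    have h0 : I ≤ (Ideal.span (Set.range g)).radical := by
      rw [Ideal.radical_eq_sInf]
      refine le_sInf fun q ⟨hq, hqp⟩ => ?_
      haveI := hqp
      by_contra hIq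
      have hmem : (⟨q, hqp⟩ : PrimeSpectrum A) ∈ U := fun h => hIq fun c hc => h hc
      obtain ⟨j, hj⟩ := hcov ⟨⟨q, hqp⟩, hmem⟩
      rw [hbo] at hj
      exact hj (hq (Ideal.subset_span ⟨j, rfl⟩))
    refine h0.trans ((Ideal.radical_mono (J := K.radical) (Ideal.span_le.mpr ?_)).trans K.radical_idem.le)
    rintro _ ⟨j, rfl⟩
    exact ⟨N j, hN j⟩
  obtain ⟨m, hm⟩ := Ideal.exists_pow_le_of_le_radical_of_fg hrad hI
  refine ⟨n + m, fun c hc x => ?_⟩
  rw [pow_add] at hc
  refine Submodule.mul_induction_on hc (fun b hb c hc => ?_) (fun c c' h h' => ?_)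
  · exact hm (Ideal.pow_right_mono hJI m hc) b hb x
  · rw [add_smul, h, h', add_zero]

end Groth.Agent.PunctKill
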