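import Mathlib

/-!
# A module model for a family of localisations which are free
-/

set_option autoImplicit false
set_option linter.style.haveILetI false

universe u

namespace Groth.Agent.PunctKill

variable {B : Type u} [CommRing B] {M : Type u} [AddCommGroup M] [Module B M] {ι : Type} [Fintype ι]

/-- A module over `B` mapping to `M` bijectively up to powers of each `g j`, on which powers of the `g j` factor
through finite free modules. -/
theorem exists_model (g : ι → B) (r : ι → ℕ) (v : ∀ j, Fin (r j) → M)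
    (hspan : ∀ j m, ∃ (n : ℕ) (c : Fin (r j) → B), g j ^ n • m = ∑ k, c k • v j k)
    (hinj : ∀ j (c : Fin (r j) → B), ∑ k, c k • v j k = 0 → ∃ n, ∀ k, g j ^ n * c k = 0) :
    ∃ (K0 : Submodule B ((Σ j, Fin (r j)) → B)) (q : (((Σ j, Fin (r j)) → B) ⧸ K0) →ₗ[B] M),
      ∀ j, (∀ m, ∃ (n : ℕ) (x : ((Σ j, Fin (r j)) → B) ⧸ K0), q x = g j ^ n • m) ∧
        (∀ x, q x = 0 → ∃ n : ℕ, g j ^ n • x = 0) ∧
        ∃ (N : ℕ) (a : Fin (r j) → ((((Σ j, Fin (r j)) → B) ⧸ K0) →ₗ[B] B))
          (b : Fin (r j) → (B →ₗ[B] (((Σ j, Fin (r j)) → B) ⧸ K0))),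
          ∑ k, b k ∘ₗ a k = g j ^ N • LinearMap.id := by
  classical
  let e : (Σ j, Fin (r j)) → ((Σ j, Fin (r j)) → B) := fun s => Pi.single s 1
  let P : ((Σ j, Fin (r j)) → B) →ₗ[B] M := Fintype.linearCombination B fun s => v s.1 s.2
  have hPe : ∀ s, P (e s) = v s.1 s.2 := fun s => by
    simp only [P, e, Fintype.linearCombination_apply_single, one_smul]
  choose n c hc using fun j (s : Σ j, Fin (r j)) => hspan j (v s.1 s.2)
  let ρ : ι × (Σ j, Fin (r j)) → ((Σ j, Fin (r j)) → B) :=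
    fun t => g t.1 ^ n t.1 t.2 • e t.2 - ∑ k, c t.1 t.2 k • e ⟨t.1, k⟩
  let K0 := Submodule.span B (Set.range ρ)
  have hK0 : K0 ≤ LinearMap.ker P := by
    refine Submodule.span_le.mpr ?_
    rintro _ ⟨⟨j, s⟩, rfl⟩
    rw [SetLike.mem_coe, LinearMap.mem_ker, map_sub, map_smul, map_sum, hPe, hc j s, sub_eq_zero]
    simp only [map_smul, hPe]
  let q := K0.liftQ P hK0
  let π := K0.mkQ
  -- every element is a combination up to a power
  have hgen : ∀ j x, ∃ (m : ℕ) (d : Fin (r j) → B), g j ^ m • π x = ∑ k, d k • π (e ⟨j, k⟩) := by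
    intro j x
    let m := ∑ s, n j s
    refine ⟨m, fun k => ∑ s, x s * (g j ^ (m - n j s) * c j s k), ?_⟩
    have hbasis : ∀ s, g j ^ m • π (e s) = ∑ k, (g j ^ (m - n j s) * c j s k) • π (e ⟨j, k⟩) := fun s => by
      have h0 : π (ρ (j, s)) = 0 := (Submodule.Quotient.mk_eq_zero _).mpr (Submodule.subset_span ⟨(j, s), rfl⟩)
      have h1 : g j ^ n j s • π (e s) = ∑ k, c j s k • π (e ⟨j, k⟩) := by
        simpa only [ρ, map_sub, map_smul, map_sum, sub_eq_zero] using h0
      have hle : n j s ≤ m := Finset.single_le_sum (fun i _ => Nat.zero_le (n j i)) (Finset.mem_univ s)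
      conv_lhs => rw [← Nat.sub_add_cancel hle,
        pow_add, mul_smul, h1, Finset.smul_sum]
      simp only [← mul_smul]
    conv_lhs => rw [pi_eq_sum_univ' x, map_sum, Finset.smul_sum]
    simp only [Finset.sum_smul]
    rw [Finset.sum_comm]
    refine Finset.sum_congr rfl fun s _ => ?_
    rw [map_smul, smul_comm, hbasis s, Finset.smul_sum]
    simp only [← mul_smul]
  have hsurj : ∀ j m, ∃ (l : ℕ) (x : ((Σ j, Fin (r j)) → B) ⧸ K0), q x = g j ^ l • m := fun j m => by
    obtain ⟨l, d, hd⟩ := hspan j m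
    refine ⟨l, π (∑ k, d k • e ⟨j, k⟩), ?_⟩
    rw [hd]
    show P _ = _
    rw [map_sum]
    simp only [map_smul, hPe]
  have hinj' : ∀ j x, q x = 0 → ∃ l : ℕ, g j ^ l • x = 0 := fun j x hx => by
    obtain ⟨x, rfl⟩ := K0.mkQ_surjective x
    obtain ⟨m, d, hd⟩ := hgen j x
    have h0 : ∑ k, d k • v j k = 0 := by
      have h := congrArg q hd
      rw [map_smul, hx, smul_zero, map_sum] at h
      rw [h]
      refine Finset.sum_congr rfl fun k _ => ?_
      rw [map_smul]
      exact (congrArg (d k • ·) (hPe ⟨j, k⟩)).symm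
    obtain ⟨l, hl⟩ := hinj j d h0
    refine ⟨l + m, ?_⟩
    rw [pow_add, mul_smul, hd, Finset.smul_sum]
    exact Finset.sum_eq_zero fun k _ => by rw [← mul_smul, hl k, zero_smul]
  refine ⟨K0, q, fun j => ⟨hsurj j, hinj' j, ?_⟩⟩
  choose m d hd using fun s => hgen j (e s)
  let N1 := ∑ s, m s
  let σ : ((Σ j, Fin (r j)) → B) →ₗ[B] (Fin (r j) → B) :=
    Fintype.linearCombination B fun s k => g j ^ (N1 - m s) * d s k
  let β : (Fin (r j) → B) →ₗ[B] ((Σ j, Fin (r j)) → B) ⧸ K0 :=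
    Fintype.linearCombination B fun k => π (e ⟨j, k⟩)
  have hβσ : ∀ x, β (σ x) = g j ^ N1 • π x := fun x => by
    conv_rhs => rw [pi_eq_sum_univ' x, map_sum, Finset.smul_sum]
    rw [show σ x = ∑ s, x s • (fun k => g j ^ (N1 - m s) * d s k) from Fintype.linearCombination_apply B _ x, map_sum]
    refine Finset.sum_congr rfl fun s _ => ?_
    rw [map_smul, map_smul, smul_comm (g j ^ N1), Fintype.linearCombination_apply]
    congr 1
    have hle : m s ≤ N1 := Finset.single_le_sum (fun i _ => Nat.zero_le (m i)) (Finset.mem_univ s)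
    conv_rhs => rw [← Nat.sub_add_cancel hle,
      pow_add, mul_smul]
    change _ = g j ^ (N1 - m s) • g j ^ m s • π (e s)
    rw [hd s, Finset.smul_sum]
    simp only [← mul_smul]
  have hkill : ∀ t, ∃ l : ℕ, ∀ k, g j ^ l * σ (ρ t) k = 0 := fun t => by
    refine hinj j _ ?_
    have h := congrArg q (hβσ (ρ t))
    rw [show π (ρ t) = 0 from (Submodule.Quotient.mk_eq_zero _).mpr (Submodule.subset_span ⟨t, rfl⟩), smul_zero,
      map_zero, Fintype.linearCombination_apply, map_sum] at h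
    rw [← h]
    refine Finset.sum_congr rfl fun k _ => ?_
    rw [map_smul]
    exact (congrArg (σ (ρ t) k • ·) (hPe ⟨j, k⟩)).symm
  choose l hl using hkill
  let N2 := ∑ t, l t
  have hσ : K0 ≤ LinearMap.ker (g j ^ N2 • σ) := by
    refine Submodule.span_le.mpr ?_
    rintro _ ⟨t, rfl⟩
    rw [SetLike.mem_coe, LinearMap.mem_ker]
    funext k
    show g j ^ N2 * σ (ρ t) k = 0
    have hle : l t ≤ N2 := Finset.single_le_sum (fun i _ => Nat.zero_le (l i)) (Finset.mem_univ t)
    rw [← Nat.sub_add_cancel hle,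
      pow_add, mul_assoc, hl t k, mul_zero]
  refine ⟨N1 + N2, fun k => LinearMap.proj k ∘ₗ K0.liftQ _ hσ,
    fun k => LinearMap.toSpanSingleton B _ (π (e ⟨j, k⟩)), ?_⟩
  refine LinearMap.ext fun x => ?_
  obtain ⟨x, rfl⟩ := K0.mkQ_surjective x
  rw [LinearMap.sum_apply, LinearMap.smul_apply, LinearMap.id_apply, pow_add, mul_comm, mul_smul, ← hβσ x, ← map_smul,
    Fintype.linearCombination_apply]
  exact Finset.sum_congr rfl fun k _ => rfl

end Groth.Agent.PunctKill
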